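import Mathlib

/-!
# Characteristic polynomials of multiplication on `S ⊗[k] H` (helper6)

For a finite-dimensional `k`-algebra `H` and a commutative `k`-algebra `S`, `cp S y` is the
characteristic polynomial of multiplication by `y` on the finite free `S`-module `S ⊗[k] H`.
Cayley–Hamilton, naturality in `S`, invariance under `S`-algebra automorphisms.
-/

set_option autoImplicit false
set_option linter.unusedSectionVars false
set_option linter.unusedVariables false
set_option linter.unusedSimpArgs false
set_option linter.style.haveILetI false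
set_option maxHeartbeats 400000

universe u

namespace Groth.Agent.Lib.Helper6.InvCM

open TensorProduct Polynomial Module

variable {k : Type u} [Field k] {H : Type u} [CommRing H] [Algebra k H] [Module.Finite k H]

section cp

variable (S : Type u) [CommRing S] [Algebra k S]

/-- The characteristic polynomial of multiplication by `y` on the `S`-module `S ⊗[k] H`. -/
noncomputable def cp (y : S ⊗[k] H) : S[X] := (LinearMap.mulLeft S y).charpoly

theorem cp_monic (y : S ⊗[k] H) : (cp S y).Monic := LinearMap.charpoly_monic _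

/-- Cayley–Hamilton. -/
theorem aeval_cp (y : S ⊗[k] H) : aeval y (cp S y) = 0 := by
  have h := LinearMap.aeval_self_charpoly (LinearMap.mulLeft S y)
  have h2 : aeval (Algebra.lmul S (S ⊗[k] H) y) (cp S y) =
      Algebra.lmul S (S ⊗[k] H) (aeval y (cp S y)) :=
    Polynomial.aeval_algHom_apply _ _ _
  have h3 : Algebra.lmul S (S ⊗[k] H) y = LinearMap.mulLeft S y := rfl
  rw [h3] at h2
  have h4 : Algebra.lmul S (S ⊗[k] H) (aeval y (cp S y)) = 0 := by
    rw [← h2]; exact h
  have h5 := LinearMap.congr_fun h4 1
  simpa using h5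

variable {S}

theorem repr_map {S' : Type u} [CommRing S'] [Algebra k S'] (φ : S →ₐ[k] S')
    {ι : Type*} (b : Basis ι k H) (z : S ⊗[k] H) (i : ι) :
    (Algebra.TensorProduct.basis S' b).repr
        (Algebra.TensorProduct.map φ (AlgHom.id k H) z) i =
      φ ((Algebra.TensorProduct.basis S b).repr z i) := by
  induction z using TensorProduct.induction_on with
  | zero => simp
  | tmul s h =>
    rw [Algebra.TensorProduct.map_tmul, Algebra.TensorProduct.basis_repr_tmul,
      Algebra.TensorProduct.basis_repr_tmul]
    simp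
  | add x y hx hy =>
    rw [map_add, map_add, Finsupp.add_apply, hx, hy, map_add, Finsupp.add_apply, map_add]

/-- Naturality of `cp` in the coefficient ring. -/
theorem cp_map {S' : Type u} [CommRing S'] [Algebra k S'] (φ : S →ₐ[k] S') (y : S ⊗[k] H) :
    cp S' (Algebra.TensorProduct.map φ (AlgHom.id k H) y) = (cp S y).map (φ : S →+* S') := by
  classical
  let b := Module.Free.chooseBasis k H
  rw [cp, cp, ← LinearMap.charpoly_toMatrix _ (Algebra.TensorProduct.basis S' b),
    ← LinearMap.charpoly_toMatrix (LinearMap.mulLeft S y) (Algebra.TensorProduct.basis S b),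
    ← Matrix.charpoly_map]
  congr 1
  ext i l
  rw [Matrix.map_apply, LinearMap.toMatrix_apply, LinearMap.toMatrix_apply,
    LinearMap.mulLeft_apply, LinearMap.mulLeft_apply, Algebra.TensorProduct.basis_apply,
    Algebra.TensorProduct.basis_apply]
  have h1 := repr_map φ b (y * ((1 : S) ⊗ₜ[k] b l)) i
  rw [map_mul, Algebra.TensorProduct.map_tmul, map_one] at h1
  exact h1

/-- Invariance of `cp` under `S`-algebra automorphisms. -/
theorem cp_algEquiv (θ : S ⊗[k] H ≃ₐ[S] S ⊗[k] H) (y : S ⊗[k] H) : cp S (θ y) = cp S y := by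
  rw [cp, cp]
  have h : LinearMap.mulLeft S (θ y) = θ.toLinearEquiv.conj (LinearMap.mulLeft S y) := by
    refine LinearMap.ext fun z => ?_
    rw [LinearEquiv.conj_apply]
    simp
  rw [h, LinearEquiv.charpoly_conj]

/-- If the constant coefficient of `cp` vanishes then the element is not a unit. -/
theorem not_isUnit_of_cp_coeff_zero [Nontrivial S] (y : S ⊗[k] H) (h : (cp S y).coeff 0 = 0) :
    ¬ IsUnit y := by
  intro hu
  obtain ⟨u, rfl⟩ := hu
  have h1 : LinearMap.det (LinearMap.mulLeft S (u : S ⊗[k] H)) = 0 := by
    rw [LinearMap.det_eq_sign_charpoly_coeff]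
    change _ * (cp S (u : S ⊗[k] H)).coeff 0 = 0
    rw [h, mul_zero]
  have h2 : LinearMap.mulLeft S (u : S ⊗[k] H) ∘ₗ LinearMap.mulLeft S ((u⁻¹ : (S ⊗[k] H)ˣ) : S ⊗[k] H) =
      LinearMap.id := by
    refine LinearMap.ext fun z => ?_
    simp [← mul_assoc]
  have h3 := congrArg LinearMap.det h2
  rw [LinearMap.det_comp, h1, zero_mul, LinearMap.det_id] at h3
  exact zero_ne_one h3

end cp

end Groth.Agent.Lib.Helper6.InvCM
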