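import Mathlib

/-!
# The "Galois" automorphism of `S ⊗[k] H` attached to an algebra map `j : H → S` (helper6)

`theta j (x ⊗ h) = (x ⊗ 1) * (j ⊗ id)(Δ h)`; it is an `S`-algebra automorphism.
-/

set_option autoImplicit false
set_option linter.unusedSectionVars false
set_option linter.unusedVariables false
set_option linter.unusedSimpArgs false
set_option linter.style.haveILetI false
set_option maxHeartbeats 400000

universe u

namespace Groth.Agent.Lib.Helper6.InvCM

open TensorProduct WithConv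

variable {k : Type u} [Field k] {H : Type u} [CommRing H] [HopfAlgebra k H]
variable {S : Type u} [CommRing S] [Algebra k S]

/-- The `S`-algebra endomorphism `x ⊗ h ↦ (x ⊗ 1) * (j ⊗ id)(Δ h)` of `S ⊗ H`. -/
noncomputable def theta (j : H →ₐ[k] S) : S ⊗[k] H →ₐ[S] S ⊗[k] H :=
  Algebra.TensorProduct.lift (Algebra.ofId S (S ⊗[k] H))
    ((Algebra.TensorProduct.map j (AlgHom.id k H)).comp (Bialgebra.comulAlgHom k H))
    (fun _ _ => Commute.all _ _)

theorem theta_tmul (j : H →ₐ[k] S) (x : S) (h : H) :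
    theta j (x ⊗ₜ[k] h) =
      (x ⊗ₜ[k] (1 : H)) * Algebra.TensorProduct.map j (AlgHom.id k H) (Coalgebra.comul h) := by
  rw [theta, Algebra.TensorProduct.lift_tmul]
  rfl

theorem theta_one_tmul (j : H →ₐ[k] S) (h : H) :
    theta j ((1 : S) ⊗ₜ[k] h) =
      Algebra.TensorProduct.map j (AlgHom.id k H) (Coalgebra.comul h) := by
  rw [theta_tmul, ← Algebra.TensorProduct.one_def, one_mul]

/-- `h ↦ j h ⊗ 1` in the convolution monoid. -/
noncomputable def ca (j : H →ₐ[k] S) : WithConv (H →ₐ[k] S ⊗[k] H) :=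
  toConv (Algebra.TensorProduct.includeLeft.comp j)

/-- `h ↦ 1 ⊗ h` in the convolution monoid. -/
noncomputable def cb : WithConv (H →ₐ[k] S ⊗[k] H) :=
  toConv Algebra.TensorProduct.includeRight

theorem ca_mul_cb_apply (j : H →ₐ[k] S) (h : H) :
    (ca j * (cb : WithConv (H →ₐ[k] S ⊗[k] H))) h = theta j ((1 : S) ⊗ₜ[k] h) := by
  rw [AlgHom.convMul_apply, theta_one_tmul]
  congr 1
  apply Algebra.TensorProduct.ext'
  intro x y
  simp [ca, cb]

/-- `(j ∘ antipode) * j = 1` in the convolution monoid. -/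
theorem ca_antipode_mul_ca (j : H →ₐ[k] S) :
    ca (j.comp (HopfAlgebra.antipodeAlgHom k H)) * ca j =
      (1 : WithConv (H →ₐ[k] S ⊗[k] H)) := by
  have h0 := AlgHom.antipode_id_cancel (R := k) (A := H)
  have h1 := AlgHom.comp_convMul_distrib
    ((Algebra.TensorProduct.includeLeft : S →ₐ[k] S ⊗[k] H).comp j)
    (toConv (HopfAlgebra.antipodeAlgHom k H)) (toConv (AlgHom.id k H))
  rw [h0] at h1
  apply WithConv.ofConv_injective
  simp only [ofConv_toConv, AlgHom.comp_id] at h1
  have h2 : ((Algebra.TensorProduct.includeLeft : S →ₐ[k] S ⊗[k] H).comp j).comp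
      (HopfAlgebra.antipodeAlgHom k H) =
      (Algebra.TensorProduct.includeLeft : S →ₐ[k] S ⊗[k] H).comp
        (j.comp (HopfAlgebra.antipodeAlgHom k H)) := rfl
  rw [h2] at h1
  rw [ca, ca, ← h1]
  ext h
  simp [AlgHom.convOne_def]

theorem theta_theta_antipode (j : H →ₐ[k] S) (h : H) :
    theta j (theta (j.comp (HopfAlgebra.antipodeAlgHom k H)) ((1 : S) ⊗ₜ[k] h)) =
      (1 : S) ⊗ₜ[k] h := by
  rw [← ca_mul_cb_apply]
  have h1 := AlgHom.comp_convMul_distrib ((theta j).restrictScalars k)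
    (ca (j.comp (HopfAlgebra.antipodeAlgHom k H))) (cb : WithConv (H →ₐ[k] S ⊗[k] H))
  have h2 : ((theta j).restrictScalars k).comp
      (ca (j.comp (HopfAlgebra.antipodeAlgHom k H))).ofConv =
      (ca (j.comp (HopfAlgebra.antipodeAlgHom k H)) : WithConv (H →ₐ[k] S ⊗[k] H)).ofConv := by
    ext x
    simp [ca, theta_tmul]
  have h3 : ((theta j).restrictScalars k).comp (cb : WithConv (H →ₐ[k] S ⊗[k] H)).ofConv =
      (ca j * (cb : WithConv (H →ₐ[k] S ⊗[k] H))).ofConv := by
    ext x
    exact (ca_mul_cb_apply j x).symm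
  rw [h2, h3] at h1
  simp only [toConv_ofConv] at h1
  have h4 := AlgHom.congr_fun h1 h
  rw [← mul_assoc, ca_antipode_mul_ca, one_mul] at h4
  exact h4

theorem theta_comp_theta_antipode (j : H →ₐ[k] S) (z : S ⊗[k] H) :
    theta j (theta (j.comp (HopfAlgebra.antipodeAlgHom k H)) z) = z := by
  induction z using TensorProduct.induction_on with
  | zero => simp
  | tmul x h =>
    have hx : x ⊗ₜ[k] h = x • ((1 : S) ⊗ₜ[k] h) := by
      rw [TensorProduct.smul_tmul', smul_eq_mul, mul_one]
    rw [hx, map_smul, map_smul, theta_theta_antipode]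
  | add a b ha hb => rw [map_add, map_add, ha, hb]

theorem theta_bijective [Module.Finite k H] (j : H →ₐ[k] S) : Function.Bijective (theta j) := by
  have hsurj : Function.Surjective (theta j) := fun z => ⟨_, theta_comp_theta_antipode j z⟩
  refine ⟨?_, hsurj⟩
  exact OrzechProperty.injective_of_surjective_endomorphism (theta j).toLinearMap hsurj

/-- `theta j` as an `S`-algebra automorphism. -/
noncomputable def thetaEquiv [Module.Finite k H] (j : H →ₐ[k] S) :
    S ⊗[k] H ≃ₐ[S] S ⊗[k] H :=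
  AlgEquiv.ofBijective (theta j) (theta_bijective j)

theorem thetaEquiv_apply [Module.Finite k H] (j : H →ₐ[k] S) (z : S ⊗[k] H) :
    thetaEquiv j z = theta j z := rfl

end Groth.Agent.Lib.Helper6.InvCM
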