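import Mathlib
import Groth.Prelude.Def_HopfRep
import Groth.Agent.Lib.Helper6.InvNorm.INd
import Groth.Agent.Lib.Helper6.InvCM.ICb
import Groth.Agent.Lib.Helper6.InvCM.ICc

/-!
# Invariance of the characteristic polynomial of `ρ r`; integrality over the invariants (helper6)
-/

set_option autoImplicit false
set_option linter.unusedSectionVars false
set_option linter.unusedVariables false
set_option linter.unusedSimpArgs false
set_option linter.style.haveILetI false
set_option maxHeartbeats 400000

universe u

namespace Groth.Agent.Lib.Helper6.InvCM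

open TensorProduct Polynomial Groth.Agent.Lib.Helper6.InvNorm

variable {k : Type u} [Field k] {H : Type u} [CommRing H] [HopfAlgebra k H] [Module.Finite k H]
  {R : Type u} [CommRing R] [Algebra k R] [HopfRep.Comod k H R]

variable (hmul : ∀ x y : R, ρ (k := k) (H := H) (x * y) = ρ (k := k) (H := H) x * ρ (k := k) (H := H) y)
  (hone : ρ (k := k) (H := H) (1 : R) = 1)

/-- `map ρA id = ρ.rTensor H` -/
theorem map_ρA_eq (z : R ⊗[k] H) :
    Algebra.TensorProduct.map (ρA hmul hone) (AlgHom.id k H) z =
      (ρ (k := k) (H := H)).rTensor H z := by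
  induction z using TensorProduct.induction_on with
  | zero => simp
  | tmul r h => rfl
  | add x y hx hy => rw [map_add, map_add, hx, hy]

theorem aux_assoc (r : R) (w : H ⊗[k] H) :
    (((r ⊗ₜ[k] (1 : H)) ⊗ₜ[k] (1 : H) : (R ⊗[k] H) ⊗[k] H)) *
        Algebra.TensorProduct.map (Algebra.TensorProduct.includeRight : H →ₐ[k] R ⊗[k] H)
          (AlgHom.id k H) w =
      (TensorProduct.assoc k R H H).symm (r ⊗ₜ[k] w) := by
  induction w using TensorProduct.induction_on with
  | zero => simp
  | tmul a b =>
    simp [Algebra.TensorProduct.tmul_mul_tmul]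
  | add x y hx hy =>
    rw [map_add, mul_add, hx, hy, TensorProduct.tmul_add, map_add]

/-- the key comparison: `theta` turns `y₁₃` into `(id ⊗ Δ) y` -/
theorem theta_map_includeLeft (z : R ⊗[k] H) :
    theta (S := R ⊗[k] H) (Algebra.TensorProduct.includeRight : H →ₐ[k] R ⊗[k] H)
      (Algebra.TensorProduct.map (Algebra.TensorProduct.includeLeft : R →ₐ[k] R ⊗[k] H)
        (AlgHom.id k H) z) =
      (TensorProduct.assoc k R H H).symm
        ((CoalgebraStruct.comul (R := k) (A := H)).lTensor R z) := by
  induction z using TensorProduct.induction_on with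
  | zero => simp
  | tmul r h =>
    rw [Algebra.TensorProduct.map_tmul, theta_tmul, LinearMap.lTensor_tmul,
      Algebra.TensorProduct.includeLeft_apply]
    exact aux_assoc r _
  | add x y hx hy => rw [map_add, map_add, hx, hy, map_add, map_add]

theorem rTensor_ρ_ρ (r : R) :
    (ρ (k := k) (H := H)).rTensor H (ρ (k := k) (H := H) r) =
      (TensorProduct.assoc k R H H).symm
        ((CoalgebraStruct.comul (R := k) (A := H)).lTensor R (ρ (k := k) (H := H) r)) := by
  have := LinearMap.congr_fun (HopfRep.Comod.coassoc (k := k) (A := H) (V := R)) r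
  simp only [LinearMap.comp_apply, LinearEquiv.coe_coe] at this
  rw [← this, LinearEquiv.symm_apply_apply]

include hmul hone in
/-- The coefficients of the characteristic polynomial of `ρ r` are invariant. -/
theorem cp_ρ_invariant (r : R) (n : ℕ) :
    ρ (k := k) (H := H) ((cp R (ρ (k := k) (H := H) r)).coeff n) =
      (cp R (ρ (k := k) (H := H) r)).coeff n ⊗ₜ[k] (1 : H) := by
  have h1 := cp_map (ρA hmul hone) (ρ (k := k) (H := H) r)
  have h2 := cp_map (Algebra.TensorProduct.includeLeft : R →ₐ[k] R ⊗[k] H)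
    (ρ (k := k) (H := H) r)
  have h3 := cp_algEquiv (thetaEquiv (S := R ⊗[k] H)
    (Algebra.TensorProduct.includeRight : H →ₐ[k] R ⊗[k] H))
    (Algebra.TensorProduct.map (Algebra.TensorProduct.includeLeft : R →ₐ[k] R ⊗[k] H)
      (AlgHom.id k H) (ρ (k := k) (H := H) r))
  rw [thetaEquiv_apply, theta_map_includeLeft, ← rTensor_ρ_ρ, ← map_ρA_eq hmul hone, h1, h2] at h3
  have h4 := congrArg (fun q => q.coeff n) h3
  simp only [Polynomial.coeff_map] at h4
  exact h4

/-- The augmentation `R ⊗ H → R`. -/
noncomputable def aug : R ⊗[k] H →ₐ[R] R :=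
  Algebra.TensorProduct.lift (AlgHom.id R R)
    ((Algebra.ofId k R).comp (Bialgebra.counitAlgHom k H)) (fun _ _ => Commute.all _ _)

theorem aug_eq (z : R ⊗[k] H) :
    aug z = TensorProduct.rid k R ((CoalgebraStruct.counit (R := k) (A := H)).lTensor R z) := by
  induction z using TensorProduct.induction_on with
  | zero => simp
  | tmul r h =>
    rw [aug, Algebra.TensorProduct.lift_tmul, LinearMap.lTensor_tmul, TensorProduct.rid_tmul]
    simp [Algebra.ofId_apply, Algebra.smul_def, mul_comm]
  | add x y hx hy => rw [map_add, hx, hy, map_add, map_add]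

theorem aug_ρ (r : R) : aug (ρ (k := k) (H := H) r) = r := by
  rw [aug_eq]
  have h5 := LinearMap.congr_fun (HopfRep.Comod.counit_comp (k := k) (A := H) (V := R)) r
  rw [LinearMap.comp_apply] at h5
  rw [h5]
  simp

/-- `r` is a root of the characteristic polynomial of `ρ r`. -/
theorem eval_cp_ρ (r : R) : (cp R (ρ (k := k) (H := H) r)).eval r = 0 := by
  have h1 := aeval_cp R (ρ (k := k) (H := H) r)
  have h2 := Polynomial.aeval_algHom_apply (aug (k := k) (H := H) (R := R))
    (ρ (k := k) (H := H) r) (cp R (ρ (k := k) (H := H) r))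
  rw [h1, map_zero, aug_ρ] at h2
  rw [← Polynomial.coe_aeval_eq_eval]
  exact h2

/-- The constant coefficient lies in the ideal generated by `r`. -/
theorem cp_coeff_zero_mem (r : R) :
    (cp R (ρ (k := k) (H := H) r)).coeff 0 ∈ Ideal.span {r} := by
  have h1 := eval_cp_ρ (k := k) (H := H) r
  have h2 := Polynomial.divX_mul_X_add (cp R (ρ (k := k) (H := H) r))
  rw [← h2, Polynomial.eval_add, Polynomial.eval_mul, Polynomial.eval_X, Polynomial.eval_C] at h1
  rw [Ideal.mem_span_singleton']
  refine ⟨-((cp R (ρ (k := k) (H := H) r)).divX.eval r), ?_⟩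
  linear_combination (-1 : R) * h1

include hmul hone in
/-- `R` is integral over the invariants. -/
theorem isIntegral_invariants (A : Subalgebra k R)
    (hA : ∀ a : R, a ∈ A ↔ ρ (k := k) (H := H) a = a ⊗ₜ[k] (1 : H)) (r : R) :
    IsIntegral A r := by
  rcases subsingleton_or_nontrivial R with hR | hR
  · exact ⟨X, monic_X, Subsingleton.elim _ _⟩
  have hl : cp R (ρ (k := k) (H := H) r) ∈ Polynomial.lifts (algebraMap A R) := by
    rw [Polynomial.lifts_iff_coeff_lifts]
    intro n
    exact ⟨⟨_, (hA _).mpr (cp_ρ_invariant hmul hone r n)⟩, rfl⟩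
  obtain ⟨q, hq1, -, hq3⟩ := Polynomial.lifts_and_degree_eq_and_monic hl (cp_monic R _)
  refine ⟨q, hq3, ?_⟩
  rw [Polynomial.eval₂_eq_eval_map, hq1]
  exact eval_cp_ρ r

end Groth.Agent.Lib.Helper6.InvCM
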