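import Mathlib
import Groth.Prelude.Def_HopfRep
import Groth.Agent.Lib.Helper6.InvNorm.INd
import Groth.Agent.Lib.Helper6.InvCM.ICd

/-!
# The integral of a linearly reductive finite Hopf algebra and the Reynolds operator (helper6)
-/

set_option autoImplicit false
set_option linter.unusedSectionVars false
set_option linter.unusedVariables false
set_option linter.unusedSimpArgs false
set_option linter.style.haveILetI false
set_option maxHeartbeats 400000

universe u

namespace Groth.Agent.Lib.Helper6.InvCM

open TensorProduct WithConv Groth.Agent.Lib.Helper6.InvNorm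

section Antipode

variable {k : Type u} [Field k] {H : Type u} [CommRing H] [HopfAlgebra k H]

/-- the antipode of a commutative Hopf algebra is an involution -/
theorem antipodeAlgHom_comp_self :
    (HopfAlgebra.antipodeAlgHom k H).comp (HopfAlgebra.antipodeAlgHom k H) = AlgHom.id k H := by
  have h1 : (toConv (AlgHom.id k H))⁻¹ = toConv (HopfAlgebra.antipodeAlgHom k H) := by
    show toConv ((AlgHom.id k H).comp (HopfAlgebra.antipodeAlgHom k H)) = _
    rw [AlgHom.id_comp]
  have h2 : (toConv (HopfAlgebra.antipodeAlgHom k H))⁻¹ =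
      toConv ((HopfAlgebra.antipodeAlgHom k H).comp (HopfAlgebra.antipodeAlgHom k H)) := rfl
  have h3 : ((toConv (AlgHom.id k H))⁻¹)⁻¹ = toConv (AlgHom.id k H) := inv_inv _
  rw [h1, h2] at h3
  exact WithConv.toConv_injective h3

theorem antipode_antipode (h : H) :
    HopfAlgebra.antipode k (HopfAlgebra.antipode k h) = h := by
  have := AlgHom.congr_fun (antipodeAlgHom_comp_self (k := k) (H := H)) h
  exact this

/-- the antipode is an anti-coalgebra map -/
theorem comul_antipode (h : H) :
    CoalgebraStruct.comul (R := k) (HopfAlgebra.antipode k h) =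
      Algebra.TensorProduct.lift
        ((Algebra.TensorProduct.includeRight : H →ₐ[k] H ⊗[k] H).comp
          (HopfAlgebra.antipodeAlgHom k H))
        ((Algebra.TensorProduct.includeLeft : H →ₐ[k] H ⊗[k] H).comp
          (HopfAlgebra.antipodeAlgHom k H))
        (fun _ _ => Commute.all _ _) (CoalgebraStruct.comul (R := k) h) := by
  have h1 : toConv (Bialgebra.comulAlgHom k H) =
      toConv (Algebra.TensorProduct.includeLeft : H →ₐ[k] H ⊗[k] H) *
        toConv (Algebra.TensorProduct.includeRight : H →ₐ[k] H ⊗[k] H) := by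
    apply WithConv.ofConv_injective
    ext x
    rw [AlgHom.convMul_apply]
    simp only [ofConv_toConv]
    have : Algebra.TensorProduct.lift (Algebra.TensorProduct.includeLeft : H →ₐ[k] H ⊗[k] H)
        (Algebra.TensorProduct.includeRight : H →ₐ[k] H ⊗[k] H) (fun _ _ => Commute.all _ _) =
        AlgHom.id k (H ⊗[k] H) := by
      ext <;> simp
    rw [this]
    rfl
  have h2 : (toConv (Bialgebra.comulAlgHom k H))⁻¹ =
      (toConv (Algebra.TensorProduct.includeRight : H →ₐ[k] H ⊗[k] H))⁻¹ *
        (toConv (Algebra.TensorProduct.includeLeft : H →ₐ[k] H ⊗[k] H))⁻¹ := by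
    rw [h1]
    exact mul_inv_rev (G := WithConv (H →ₐ[k] H ⊗[k] H)) _ _
  have h3 : ((toConv (Bialgebra.comulAlgHom k H))⁻¹) h =
      ((toConv (Algebra.TensorProduct.includeRight : H →ₐ[k] H ⊗[k] H))⁻¹ *
        (toConv (Algebra.TensorProduct.includeLeft : H →ₐ[k] H ⊗[k] H))⁻¹) h := by
    rw [h2]
  rw [AlgHom.convMul_apply] at h3
  exact h3

end Antipode

section Integral

variable {k : Type u} [Field k] {H : Type u} [CommRing H] [HopfAlgebra k H] [Module.Finite k H]

/-- linear reductivity gives an invariant functional on the regular comodule -/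
theorem exists_right_integral (hG : HopfRep.IsLinearlyReductive k H) :
    ∃ π : H →ₗ[k] k, π 1 = 1 ∧
      ∀ h : H, π.rTensor H (CoalgebraStruct.comul (R := k) h) = π h ⊗ₜ[k] (1 : H) := by
  have hss : HopfRep.IsSemisimpleComod k H H := hG H inferInstance
  let W : Submodule k H := Submodule.span k {(1 : H)}
  have h1W : (1 : H) ∈ W := Submodule.subset_span rfl
  have hWsub : HopfRep.IsSubcomod (k := k) (A := H) W := by
    intro w hw
    obtain ⟨c, rfl⟩ := Submodule.mem_span_singleton.mp hw
    refine ⟨c • ((⟨1, h1W⟩ : W) ⊗ₜ[k] (1 : H)), ?_⟩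
    rw [map_smul, LinearMap.rTensor_tmul, map_smul]
    show c • ((1 : H) ⊗ₜ[k] (1 : H)) = c • CoalgebraStruct.comul (R := k) (1 : H)
    rw [Bialgebra.comul_one, Algebra.TensorProduct.one_def]
  obtain ⟨W', hW'sub, hcompl⟩ := hss W hWsub
  let π : H →ₗ[k] k :=
    (CoalgebraStruct.counit (R := k) (A := H)) ∘ₗ W.subtype ∘ₗ W.projectionOnto W' hcompl
  have hπ1 : π 1 = 1 := by
    show CoalgebraStruct.counit (R := k) (A := H) ((W.projectionOnto W' hcompl (1 : H) : W) : H) = 1
    rw [Submodule.projectionOnto_apply_of_mem_left hcompl h1W]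
    exact Bialgebra.counit_one
  have hπW' : ∀ w ∈ W', π w = 0 := by
    intro w hw
    show CoalgebraStruct.counit (R := k) (A := H) ((W.projectionOnto W' hcompl w : W) : H) = 0
    rw [Submodule.projectionOnto_apply_of_mem_right hcompl hw]
    simp
  refine ⟨π, hπ1, ?_⟩
  intro h
  have hh : h ∈ W ⊔ W' := by rw [hcompl.sup_eq_top]; trivial
  obtain ⟨y, hy, z, hz, rfl⟩ := Submodule.mem_sup.mp hh
  obtain ⟨c, rfl⟩ := Submodule.mem_span_singleton.mp hy
  rw [map_add, map_add, map_add, TensorProduct.add_tmul]
  congr 1
  · rw [map_smul, map_smul, map_smul, Bialgebra.comul_one, Algebra.TensorProduct.one_def,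
      LinearMap.rTensor_tmul, hπ1, TensorProduct.smul_tmul']
  · obtain ⟨t, ht⟩ := hW'sub z hz
    have ht' : CoalgebraStruct.comul (R := k) z = W'.subtype.rTensor H t := ht.symm
    rw [ht', ← LinearMap.rTensor_comp_apply, hπW' z hz, TensorProduct.zero_tmul]
    have : π ∘ₗ W'.subtype = 0 := by
      ext w
      exact hπW' w w.2
    rw [this, LinearMap.rTensor_zero, LinearMap.zero_apply]

/-- The normalized (two-sided, used here on the other side) integral of a linearly reductive
finite commutative Hopf algebra. -/
theorem exists_integral (hG : HopfRep.IsLinearlyReductive k H) :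
    ∃ l : H →ₗ[k] k, l 1 = 1 ∧
      ∀ h : H, TensorProduct.rid k H (l.lTensor H (CoalgebraStruct.comul (R := k) h)) =
        l h • (1 : H) := by
  obtain ⟨π, hπ1, hπ⟩ := exists_right_integral hG
  let S : H →ₗ[k] H := HopfAlgebra.antipode k
  let l : H →ₗ[k] k := π ∘ₗ S
  have hl1 : l 1 = 1 := by
    show π (HopfAlgebra.antipode k (1 : H)) = 1
    rw [HopfAlgebra.antipode_one, hπ1]
  refine ⟨l, hl1, ?_⟩
  -- the key comparison
  have key : ∀ t : H ⊗[k] H,
      TensorProduct.lid k H (π.rTensor H
        (Algebra.TensorProduct.lift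
          ((Algebra.TensorProduct.includeRight : H →ₐ[k] H ⊗[k] H).comp
            (HopfAlgebra.antipodeAlgHom k H))
          ((Algebra.TensorProduct.includeLeft : H →ₐ[k] H ⊗[k] H).comp
            (HopfAlgebra.antipodeAlgHom k H))
          (fun _ _ => Commute.all _ _) t)) =
      S (TensorProduct.rid k H (l.lTensor H t)) := by
    intro t
    induction t using TensorProduct.induction_on with
    | zero => simp
    | tmul a b =>
      rw [Algebra.TensorProduct.lift_tmul]
      simp only [AlgHom.comp_apply, Algebra.TensorProduct.includeRight_apply,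
        Algebra.TensorProduct.includeLeft_apply, Algebra.TensorProduct.tmul_mul_tmul, one_mul,
        mul_one, LinearMap.rTensor_tmul, LinearMap.lTensor_tmul, TensorProduct.lid_tmul,
        TensorProduct.rid_tmul, map_smul]
      rfl
    | add x y hx hy => simp only [map_add, hx, hy]
  intro h
  have h1 := key (CoalgebraStruct.comul (R := k) h)
  rw [← comul_antipode, hπ, TensorProduct.lid_tmul] at h1
  have h2 := congrArg S h1
  have h3 : ∀ x : H, S (S x) = x := fun x => antipode_antipode x
  rw [h3, map_smul] at h2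
  rw [← h2]
  show π (S h) • S 1 = _
  have : S (1 : H) = 1 := HopfAlgebra.antipode_one
  rw [this]
  rfl

end Integral

end Groth.Agent.Lib.Helper6.InvCM
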