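import Mathlib
import Groth.Prelude.Def_HopfRep
import Groth.Agent.Lib.Helper6.InvNorm.INd
import Groth.Agent.Lib.Helper6.InvCM.ICb
import Groth.Agent.Lib.Helper6.InvCM.ICc
import Groth.Agent.Lib.Helper6.InvCM.ICd

/-!
# Transitivity on fibres, going-down and heights for invariants of a finite Hopf coaction (helper6)
-/

set_option autoImplicit false
set_option linter.unusedSectionVars false
set_option linter.unusedVariables false
set_option linter.unusedSimpArgs false
set_option linter.style.haveILetI false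
set_option maxHeartbeats 400000

universe u

namespace Groth.Agent.Lib.Helper6.InvCM

open TensorProduct Polynomial Groth.Agent.Lib.Helper6.InvNorm

variable {k : Type u} [Field k] {H : Type u} [CommRing H] [HopfAlgebra k H] [Module.Finite k H]
  {R : Type u} [CommRing R] [Algebra k R] [HopfRep.Comod k H R]

variable (hmul : ∀ x y : R, ρ (k := k) (H := H) (x * y) = ρ (k := k) (H := H) x * ρ (k := k) (H := H) y)
  (hone : ρ (k := k) (H := H) (1 : R) = 1)

/-- the contraction of a prime along `ρA` contains exactly the same invariants as its contraction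
along `r ↦ r ⊗ 1` -/
theorem mem_comap_ρA_iff (A : Subalgebra k R)
    (hA : ∀ a : R, a ∈ A ↔ ρ (k := k) (H := H) a = a ⊗ₜ[k] (1 : H))
    (Q : Ideal (R ⊗[k] H)) {a : R} (ha : a ∈ A) :
    a ∈ Q.comap (ρA hmul hone) ↔ a ∈ Q.comap (algebraMap R (R ⊗[k] H)) := by
  rw [Ideal.mem_comap, Ideal.mem_comap, ρA_apply, (hA a).mp ha,
    Algebra.TensorProduct.algebraMap_apply]
  rfl

/-- Primes of `K ⊗ H` (for a field `K` receiving `R`) contract to the kernel. -/
theorem comap_comap_eq_ker {K : Type u} [Field K] [Algebra k K] (φ : R →ₐ[k] K)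
    (M : Ideal (K ⊗[k] H)) (hM : M ≠ ⊤) :
    (M.comap (Algebra.TensorProduct.map φ (AlgHom.id k H))).comap (algebraMap R (R ⊗[k] H)) =
      RingHom.ker (φ : R →+* K) := by
  ext r
  rw [Ideal.mem_comap, Ideal.mem_comap, Algebra.TensorProduct.algebraMap_apply,
    RingHom.mem_ker]
  have h1 : Algebra.TensorProduct.map φ (AlgHom.id k H) ((algebraMap R R) r ⊗ₜ[k] (1 : H)) =
      algebraMap K (K ⊗[k] H) (φ r) := by
    rw [Algebra.TensorProduct.map_tmul, Algebra.TensorProduct.algebraMap_apply]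
    rfl
  rw [h1]
  constructor
  · intro h
    by_contra hne0
    have hne : φ r ≠ 0 := hne0
    apply hM
    rw [Ideal.eq_top_iff_one]
    have h2 : (algebraMap K (K ⊗[k] H) (φ r)⁻¹) * algebraMap K (K ⊗[k] H) (φ r) = 1 := by
      rw [← map_mul, inv_mul_cancel₀ hne, map_one]
    rw [← h2]
    exact M.mul_mem_left _ h
  · intro h
    have : (φ : R →+* K) r = φ r := rfl
    rw [this] at h
    rw [h, map_zero]
    exact M.zero_mem

include hmul hone in
/-- Transitivity of the "group" on the fibres of `Spec R → Spec A`: two primes of `R` with the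
same invariants are the two contractions of a single prime of `R ⊗ H`. -/
theorem exists_prime_orbit (A : Subalgebra k R)
    (hA : ∀ a : R, a ∈ A ↔ ρ (k := k) (H := H) a = a ⊗ₜ[k] (1 : H))
    (q₁ q₂ : Ideal R) [hq₁ : q₁.IsPrime] [hq₂ : q₂.IsPrime]
    (h12 : ∀ a ∈ A, a ∈ q₁ ↔ a ∈ q₂) :
    ∃ Q : Ideal (R ⊗[k] H), Q.IsPrime ∧ Q.comap (algebraMap R (R ⊗[k] H)) = q₁ ∧
      Q.comap (ρA hmul hone) = q₂ := by
  classical
  by_contra hcon
  have hcon' : ∀ Q : Ideal (R ⊗[k] H), Q.IsPrime → Q.comap (algebraMap R (R ⊗[k] H)) = q₁ →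
      Q.comap (ρA hmul hone) ≠ q₂ := by
    intro Q hQ h1 h2
    exact hcon ⟨Q, hQ, h1, h2⟩
  have hfin : (q₁.primesOver (R ⊗[k] H)).Finite := Algebra.QuasiFinite.finite_primesOver q₁
  have hint : ∀ x : R, IsIntegral A x := isIntegral_invariants hmul hone A hA
  -- no contraction contains `q₂`
  have hnot : ∀ Q ∈ hfin.toFinset, ¬ (q₂ ≤ Q.comap (ρA hmul hone)) := by
    intro Q hQ hle
    obtain ⟨hQp, hQo⟩ := hfin.mem_toFinset.mp hQ
    have hQ1 : Q.comap (algebraMap R (R ⊗[k] H)) = q₁ := hQo.over.symm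
    have hne : q₂ ≠ Q.comap (ρA hmul hone) := fun h => hcon' Q hQp hQ1 h.symm
    have hlt : q₂ < Q.comap (ρA hmul hone) := lt_of_le_of_ne hle hne
    obtain ⟨x, hx1, hx2⟩ := Set.exists_of_ssubset hlt
    have h3 := Ideal.comap_lt_comap_of_integral_mem_sdiff (R := A) hle ⟨hx1, hx2⟩ (hint x)
    obtain ⟨a, ha1, ha2⟩ := Set.exists_of_ssubset h3
    apply ha2
    have ha1' : (a : R) ∈ Q.comap (ρA hmul hone) := ha1
    rw [mem_comap_ρA_iff hmul hone A hA Q a.2, hQ1] at ha1'
    show (a : R) ∈ q₂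
    exact (h12 _ a.2).mp ha1'
  -- prime avoidance
  have hav : ¬ ((q₂ : Set R) ⊆ ⋃ Q ∈ (hfin.toFinset : Set (Ideal (R ⊗[k] H))),
      ((Q.comap (ρA hmul hone) : Ideal R) : Set R)) := by
    rw [Ideal.subset_union_prime (f := fun Q : Ideal (R ⊗[k] H) => Q.comap (ρA hmul hone)) ⊥ ⊥]
    · rintro ⟨Q, hQ, hle⟩
      exact hnot Q hQ hle
    · intro Q hQ _ _
      obtain ⟨hQp, hQo⟩ := hfin.mem_toFinset.mp hQ
      exact Ideal.comap_isPrime _ _
  obtain ⟨f, hf2, hfn⟩ := Set.not_subset.mp hav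
  -- the constant coefficient of the characteristic polynomial of `ρ f`
  set c₀ := (cp R (ρ (k := k) (H := H) f)).coeff 0 with hc₀
  have hc₀A : c₀ ∈ A := (hA _).mpr (cp_ρ_invariant hmul hone f 0)
  have hc₀2 : c₀ ∈ q₂ := by
    have := cp_coeff_zero_mem (k := k) (H := H) f
    exact (Ideal.span_singleton_le_iff_mem (I := q₂)).mpr hf2 this
  have hc₀1 : c₀ ∈ q₁ := (h12 _ hc₀A).mpr hc₀2
  -- pass to the residue field of `q₁`
  let K := q₁.ResidueField
  let φ : R →ₐ[k] K := IsScalarTower.toAlgHom k R K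
  have hφker : RingHom.ker (φ : R →+* K) = q₁ := by
    ext r
    rw [RingHom.mem_ker]
    exact Ideal.algebraMap_residueField_eq_zero
  set x := Algebra.TensorProduct.map φ (AlgHom.id k H) (ρ (k := k) (H := H) f) with hx
  have hcpx : (cp K x).coeff 0 = 0 := by
    rw [hx, cp_map, Polynomial.coeff_map]
    have : φ c₀ = 0 := by
      have : c₀ ∈ RingHom.ker (φ : R →+* K) := by rw [hφker]; exact hc₀1
      exact this
    exact this
  have hxu : ¬ IsUnit x := not_isUnit_of_cp_coeff_zero x hcpx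
  obtain ⟨M, hMmax, hxM⟩ := exists_max_ideal_of_mem_nonunits (mem_nonunits_iff.mpr hxu)
  set Q := M.comap (Algebra.TensorProduct.map φ (AlgHom.id k H)) with hQ
  have hQp : Q.IsPrime := Ideal.comap_isPrime _ _
  have hQ1 : Q.comap (algebraMap R (R ⊗[k] H)) = q₁ := by
    rw [hQ, comap_comap_eq_ker φ M hMmax.ne_top, hφker]
  have hQmem : Q ∈ hfin.toFinset := by
    rw [hfin.mem_toFinset]
    exact ⟨hQp, ⟨hQ1.symm⟩⟩
  apply hfn
  refine Set.mem_biUnion (x := Q) hQmem ?_
  show f ∈ Q.comap (ρA hmul hone)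
  rw [Ideal.mem_comap, hQ, Ideal.mem_comap, ρA_apply]
  exact hxM

include hmul hone in
theorem algebra_isIntegral_invariants (A : Subalgebra k R)
    (hA : ∀ a : R, a ∈ A ↔ ρ (k := k) (H := H) a = a ⊗ₜ[k] (1 : H)) :
    Algebra.IsIntegral A R :=
  ⟨isIntegral_invariants hmul hone A hA⟩

include hmul hone in
/-- Going-down holds for the invariants `A ⊆ R`. -/
theorem hasGoingDown_invariants (A : Subalgebra k R)
    (hA : ∀ a : R, a ∈ A ↔ ρ (k := k) (H := H) a = a ⊗ₜ[k] (1 : H)) :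
    Algebra.HasGoingDown A R := by
  haveI hint : Algebra.IsIntegral A R := algebra_isIntegral_invariants hmul hone A hA
  constructor
  intro p' hp' q hq hlt
  -- a prime over `p'`
  obtain ⟨q'', -, hq''p, hq''⟩ := Ideal.exists_ideal_over_prime_of_isIntegral p' (⊥ : Ideal R)
    (by
      intro a ha
      rw [Ideal.mem_comap, Ideal.mem_bot] at ha
      have : a = 0 := Subtype.ext ha
      rw [this]; exact p'.zero_mem)
  -- going up to a prime over `q.under A`
  obtain ⟨qt, hle, hqtp, hqt⟩ := Ideal.exists_ideal_over_prime_of_isIntegral_of_isPrime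
    (q.under A) q'' (by rw [hq'']; exact hlt.le)
  -- same orbit
  have h12 : ∀ a ∈ A, a ∈ qt ↔ a ∈ q := by
    intro a ha
    have := Ideal.ext_iff.mp hqt ⟨a, ha⟩
    exact this
  obtain ⟨Q, hQp, hQ1, hQ2⟩ := exists_prime_orbit hmul hone A hA qt q h12
  haveI : Q.LiesOver qt := ⟨hQ1.symm⟩
  obtain ⟨Q', hQ'le, hQ'p, hQ'o⟩ := Ideal.exists_ideal_le_liesOver_of_le (p := q'') (q := qt) Q hle
  refine ⟨Q'.comap (ρA hmul hone), ?_, Ideal.comap_isPrime _ _, ⟨?_⟩⟩
  · rw [← hQ2]
    exact Ideal.comap_mono hQ'le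
  · ext a
    have h1 : a ∈ p' ↔ (a : R) ∈ q'' := by
      rw [← hq'']; rfl
    have h2 : (a : R) ∈ q'' ↔ (a : R) ∈ Q'.comap (algebraMap R (R ⊗[k] H)) := by
      rw [hQ'o.over]
    rw [h1, h2, ← mem_comap_ρA_iff hmul hone A hA Q' a.2]
    rfl

include hmul hone in
/-- Heights do not drop under contraction to the invariants. -/
theorem height_under_le (A : Subalgebra k R)
    (hA : ∀ a : R, a ∈ A ↔ ρ (k := k) (H := H) a = a ⊗ₜ[k] (1 : H)) [IsNoetherianRing R]
    [IsNoetherianRing A]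
    (q : Ideal R) [q.IsPrime] : (q.under A).height ≤ q.height := by
  haveI := hasGoingDown_invariants hmul hone A hA
  rw [Ideal.height_eq_height_add_of_liesOver_of_hasGoingDown (q.under A) q]
  exact le_self_add

end Groth.Agent.Lib.Helper6.InvCM
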