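import Mathlib
import Groth.Prelude.Def_HopfRep
import Groth.Agent.Lib.Helper6.InvNorm.INd
import Groth.Agent.Lib.Helper6.InvCM.ICd
import Groth.Agent.Lib.Helper6.InvCM.ICa

/-!
# The Reynolds operator of a linearly reductive finite Hopf coaction (helper6)
-/

set_option autoImplicit false
set_option linter.unusedSectionVars false
set_option linter.unusedVariables false
set_option linter.unusedSimpArgs false
set_option linter.style.haveILetI false
set_option maxHeartbeats 400000

universe u

namespace Groth.Agent.Lib.Helper6.InvCM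

open TensorProduct Groth.Agent.Lib.Helper6.InvNorm

variable {k : Type u} [Field k] {H : Type u} [CommRing H] [HopfAlgebra k H] [Module.Finite k H]
  {R : Type u} [CommRing R] [Algebra k R] [HopfRep.Comod k H R]

/-- the averaging operator attached to a functional `l` on `H` -/
noncomputable def avg (l : H →ₗ[k] k) : R →ₗ[k] R :=
  (TensorProduct.rid k R).toLinearMap ∘ₗ l.lTensor R ∘ₗ ρ (k := k) (H := H)

theorem avg_apply (l : H →ₗ[k] k) (r : R) :
    avg l r = TensorProduct.rid k R (l.lTensor R (ρ (k := k) (H := H) r)) := rfl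

/-- the averaging operator fixes invariants when `l 1 = 1` -/
theorem avg_of_invariant (l : H →ₗ[k] k) (hl1 : l 1 = 1) {a : R}
    (ha : ρ (k := k) (H := H) a = a ⊗ₜ[k] (1 : H)) : avg l a = a := by
  rw [avg_apply, ha, LinearMap.lTensor_tmul, TensorProduct.rid_tmul, hl1, one_smul]

theorem rid_lTensor_mul (l : H →ₗ[k] k) (a : R) (t : R ⊗[k] H) :
    TensorProduct.rid k R (l.lTensor R ((a ⊗ₜ[k] (1 : H)) * t)) =
      a * TensorProduct.rid k R (l.lTensor R t) := by
  induction t using TensorProduct.induction_on with
  | zero => simp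
  | tmul x h =>
    rw [Algebra.TensorProduct.tmul_mul_tmul, one_mul, LinearMap.lTensor_tmul,
      LinearMap.lTensor_tmul, TensorProduct.rid_tmul, TensorProduct.rid_tmul, mul_smul_comm]
  | add x y hx hy => rw [mul_add, map_add, map_add, hx, hy, map_add, map_add, mul_add]

/-- the averaging operator is linear over the invariants -/
theorem avg_mul_of_invariant
    (hmul : ∀ x y : R, ρ (k := k) (H := H) (x * y) = ρ (k := k) (H := H) x * ρ (k := k) (H := H) y)
    (l : H →ₗ[k] k) {a : R}
    (ha : ρ (k := k) (H := H) a = a ⊗ₜ[k] (1 : H)) (r : R) : avg l (a * r) = a * avg l r := by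
  rw [avg_apply, hmul, ha, rid_lTensor_mul, avg_apply]

theorem ρ_rid_lTensor (l : H →ₗ[k] k) (t : R ⊗[k] H) :
    ρ (k := k) (H := H) (TensorProduct.rid k R (l.lTensor R t)) =
      TensorProduct.rid k (R ⊗[k] H) (l.lTensor (R ⊗[k] H)
        ((ρ (k := k) (H := H)).rTensor H t)) := by
  induction t using TensorProduct.induction_on with
  | zero => simp
  | tmul x h =>
    rw [LinearMap.lTensor_tmul, TensorProduct.rid_tmul, LinearMap.rTensor_tmul,
      LinearMap.lTensor_tmul, TensorProduct.rid_tmul, map_smul]
  | add x y hx hy => simp only [map_add, hx, hy]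

theorem rid_lTensor_assoc_symm (l : H →ₗ[k] k) (x : R) (u : H ⊗[k] H) :
    TensorProduct.rid k (R ⊗[k] H) (l.lTensor (R ⊗[k] H)
      ((TensorProduct.assoc k R H H).symm (x ⊗ₜ[k] u))) =
      x ⊗ₜ[k] TensorProduct.rid k H (l.lTensor H u) := by
  induction u using TensorProduct.induction_on with
  | zero => simp
  | tmul a b =>
    rw [TensorProduct.assoc_symm_tmul, LinearMap.lTensor_tmul, TensorProduct.rid_tmul,
      LinearMap.lTensor_tmul, TensorProduct.rid_tmul, TensorProduct.smul_tmul',
      TensorProduct.smul_tmul, TensorProduct.tmul_smul]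
  | add x' y' hx hy =>
    rw [TensorProduct.tmul_add]
    simp only [map_add, hx, hy, TensorProduct.tmul_add]

theorem rid_lTensor_assoc_symm_comul (l : H →ₗ[k] k)
    (hl : ∀ h : H, TensorProduct.rid k H (l.lTensor H (CoalgebraStruct.comul (R := k) h)) =
        l h • (1 : H)) (t : R ⊗[k] H) :
    TensorProduct.rid k (R ⊗[k] H) (l.lTensor (R ⊗[k] H)
      ((TensorProduct.assoc k R H H).symm
        ((CoalgebraStruct.comul (R := k) (A := H)).lTensor R t))) =
      (TensorProduct.rid k R (l.lTensor R t)) ⊗ₜ[k] (1 : H) := by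
  induction t using TensorProduct.induction_on with
  | zero => simp
  | tmul x h =>
    rw [LinearMap.lTensor_tmul, rid_lTensor_assoc_symm, hl, LinearMap.lTensor_tmul,
      TensorProduct.rid_tmul, TensorProduct.tmul_smul, TensorProduct.smul_tmul']
  | add x y hx hy => simp only [map_add, hx, hy, TensorProduct.add_tmul]

/-- the averaging operator of an integral takes values in the invariants -/
theorem ρ_avg (l : H →ₗ[k] k)
    (hl : ∀ h : H, TensorProduct.rid k H (l.lTensor H (CoalgebraStruct.comul (R := k) h)) =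
        l h • (1 : H)) (r : R) :
    ρ (k := k) (H := H) (avg l r) = avg l r ⊗ₜ[k] (1 : H) := by
  rw [avg_apply, ρ_rid_lTensor, rTensor_ρ_ρ, rid_lTensor_assoc_symm_comul l hl]

end Groth.Agent.Lib.Helper6.InvCM
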