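import Mathlib
import Groth.Prelude.Def_CAlg
import Groth.Agent.Lib.Helper8.Depth36
import Groth.Agent.Lib.Helper8.Depth41

/-!
# Depth of a module retract (helper6)
-/

set_option autoImplicit false
set_option linter.unusedSectionVars false
set_option linter.unusedVariables false
set_option linter.unusedSimpArgs false
set_option linter.style.haveILetI false
set_option maxHeartbeats 400000

universe u

namespace Groth.Agent.Lib.Helper6.InvCM

open CategoryTheory Abelian LocCoh Groth.Agent.Helper8.Depth

variable {R : Type u} [CommRing R]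

theorem ext_subsingleton_of_retract {X M N : ModuleCat.{u} R} (i : M ⟶ N) (r : N ⟶ M)
    (h : i ≫ r = 𝟙 M) (n : ℕ) (hN : Subsingleton (Abelian.Ext X N n)) :
    Subsingleton (Abelian.Ext X M n) := by
  refine ⟨fun x y => ?_⟩
  have key : ∀ z : Abelian.Ext X M n, z = 0 := by
    intro z
    have h1 : z = (z.comp (Ext.mk₀ i) (add_zero n)).comp (Ext.mk₀ r) (add_zero n) := by
      rw [Ext.comp_assoc_of_third_deg_zero, Ext.mk₀_comp_mk₀, h, Ext.comp_mk₀_id]
    rw [h1, Subsingleton.elim (z.comp (Ext.mk₀ i) (add_zero n)) 0, Ext.zero_comp]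
  rw [key x, key y]

/-- The depth of a module retract is at least the depth of the ambient module. -/
theorem idealDepth_le_of_retract [IsNoetherianRing R] (I : Ideal R)
    {M N : Type u} [AddCommGroup M] [Module R M] [Module.Finite R M]
    [AddCommGroup N] [Module R N] [Module.Finite R N]
    (i : M →ₗ[R] N) (r : N →ₗ[R] M) (h : ∀ m, r (i m) = m) :
    idealDepth I N ≤ idealDepth I M := by
  rw [← ENat.forall_natCast_le_iff_le]
  intro n hn
  rw [le_idealDepth_iff_ext'] at hn ⊢
  intro j hj
  refine ext_subsingleton_of_retract (ModuleCat.ofHom i) (ModuleCat.ofHom r) ?_ j (hn j hj)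
  ext m
  exact h m

end Groth.Agent.Lib.Helper6.InvCM
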