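import Mathlib
import Groth.Prelude.Def_CAlg
import Groth.Prelude.Def_HopfRep
import Groth.Agent.Lib.Helper8.Depth36
import Groth.Agent.Lib.Helper8.Depth41
import Groth.Agent.Lib.Helper6.InvNorm.INd
import Groth.Agent.Lib.Helper6.InvCM.ICa
import Groth.Agent.Lib.Helper6.InvCM.ICd
import Groth.Agent.Lib.Helper6.InvCM.ICe
import Groth.Agent.Lib.Helper6.InvCM.ICf
import Groth.Agent.Lib.Helper6.InvCM.ICg

/-!
# Serre's conditions and Cohen–Macaulayness for invariants of linearly reductive finite group
schemes (helper6)
-/

set_option autoImplicit false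
set_option linter.unusedSectionVars false
set_option linter.unusedVariables false
set_option linter.unusedSimpArgs false
set_option linter.style.haveILetI false
set_option maxHeartbeats 400000

universe u

namespace Groth.Agent.Lib.Helper6.InvCM

open TensorProduct LocCoh Groth.Agent.Helper8.Depth Groth.Agent.Lib.Helper6.InvNorm

variable {k : Type u} [Field k] {H : Type u} [CommRing H] [HopfAlgebra k H] [Module.Finite k H]
  {R : Type u} [CommRing R] [Algebra k R] [HopfRep.Comod k H R]

variable (hmul : ∀ x y : R, ρ (k := k) (H := H) (x * y) = ρ (k := k) (H := H) x * ρ (k := k) (H := H) y)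
  (hone : ρ (k := k) (H := H) (1 : R) = 1)

include hmul hone in
theorem finite_over_invariants [Algebra.FiniteType k R] (A : Subalgebra k R)
    (hA : ∀ a : R, a ∈ A ↔ ρ (k := k) (H := H) a = a ⊗ₜ[k] (1 : H)) : Module.Finite A R := by
  haveI : Algebra.IsIntegral A R := algebra_isIntegral_invariants hmul hone A hA
  haveI : Algebra.FiniteType A R := Algebra.FiniteType.of_restrictScalars_finiteType k A R
  exact Algebra.IsIntegral.finite

include hmul hone in
theorem finiteType_invariants [Algebra.FiniteType k R] (A : Subalgebra k R)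
    (hA : ∀ a : R, a ∈ A ↔ ρ (k := k) (H := H) a = a ⊗ₜ[k] (1 : H)) : Algebra.FiniteType k A := by
  haveI := finite_over_invariants hmul hone A hA
  exact ⟨fg_of_fg_of_fg k A R Algebra.FiniteType.out Module.Finite.fg_top Subtype.val_injective⟩

include hmul hone in
theorem isNoetherianRing_invariants [Algebra.FiniteType k R] (A : Subalgebra k R)
    (hA : ∀ a : R, a ∈ A ↔ ρ (k := k) (H := H) a = a ⊗ₜ[k] (1 : H)) : IsNoetherianRing A := by
  haveI := finiteType_invariants hmul hone A hA
  exact Algebra.FiniteType.isNoetherianRing k A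

/-- monotonicity of `(S_k)` in `k` -/
theorem hasSk_mono {B : Type u} [CommRing B] {M : Type u} [AddCommGroup M] [Module B M]
    {m r : ℕ} (hmr : m ≤ r) (h : HasSk r B M) : HasSk m B M := by
  intro q hq
  refine le_trans (min_le_min_right _ ?_) (h q)
  exact_mod_cast hmr

include hmul hone in
/-- the core estimate: depth of `R` along a prime of the invariants -/
theorem min_height_le_idealDepth [Algebra.FiniteType k R] (A : Subalgebra k R)
    (hA : ∀ a : R, a ∈ A ↔ ρ (k := k) (H := H) a = a ⊗ₜ[k] (1 : H))
    (r : ℕ) (hR : HasSk r R R) (p : Ideal A) [hp : p.IsPrime] :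
    min (r : ℕ∞) p.height ≤ idealDepth p R := by
  haveI : IsNoetherianRing R := Algebra.FiniteType.isNoetherianRing k R
  haveI : IsNoetherianRing A := isNoetherianRing_invariants hmul hone A hA
  haveI : Module.Finite A R := finite_over_invariants hmul hone A hA
  rw [idealDepth_tower A R p R]
  have hfin : p.height ≠ ⊤ := Ideal.height_ne_top hp.ne_top
  obtain ⟨h, hh⟩ := ENat.ne_top_iff_exists.mp hfin
  have hmin : min (r : ℕ∞) p.height = ((min r h : ℕ) : ℕ∞) := by
    rw [← hh]
    rcases le_total r h with hrh | hrh
    · rw [min_eq_left hrh, min_eq_left (by exact_mod_cast hrh)]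
    · rw [min_eq_right hrh, min_eq_right (by exact_mod_cast hrh)]
  rw [hmin]
  refine le_idealDepth_of_hasSk R (min r h) (p.map (algebraMap A R))
    (hasSk_mono (min_le_left r h) hR) ?_
  intro q hq _
  rw [supportDim_localizedModule_self]
  have h1 : p ≤ q.asIdeal.under A := by
    rw [Ideal.under_def, ← Ideal.map_le_iff_le_comap]; exact hq
  have h2 : p.height ≤ q.asIdeal.height :=
    (Ideal.height_mono h1).trans (height_under_le hmul hone A hA q.asIdeal)
  have h3 : ((min r h : ℕ) : ℕ∞) ≤ q.asIdeal.height := by
    refine le_trans ?_ h2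
    rw [← hh]
    exact_mod_cast min_le_right r h
  exact_mod_cast h3

/-- The Reynolds operator as a map of modules over the invariants. -/
noncomputable def reynolds (A : Subalgebra k R)
    (hA : ∀ a : R, a ∈ A ↔ ρ (k := k) (H := H) a = a ⊗ₜ[k] (1 : H))
    (l : H →ₗ[k] k)
    (hl : ∀ h : H, TensorProduct.rid k H (l.lTensor H (CoalgebraStruct.comul (R := k) h)) =
        l h • (1 : H)) : R →ₗ[A] A where
  toFun r := ⟨avg l r, (hA _).mpr (ρ_avg l hl r)⟩
  map_add' x y := Subtype.ext (by simp)
  map_smul' a x := Subtype.ext (by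
    show avg l (a • x) = (a : R) * avg l x
    rw [Algebra.smul_def]
    exact avg_mul_of_invariant hmul l ((hA a).mp a.2) x)

theorem reynolds_algebraMap (A : Subalgebra k R)
    (hA : ∀ a : R, a ∈ A ↔ ρ (k := k) (H := H) a = a ⊗ₜ[k] (1 : H))
    (l : H →ₗ[k] k) (hl1 : l 1 = 1)
    (hl : ∀ h : H, TensorProduct.rid k H (l.lTensor H (CoalgebraStruct.comul (R := k) h)) =
        l h • (1 : H)) (a : A) :
    reynolds hmul A hA l hl (algebraMap A R a) = a :=
  Subtype.ext (avg_of_invariant l hl1 ((hA a).mp a.2))

include hmul hone in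
/-- the invariants are a module retract, so their depth is at least that of `R` -/
theorem idealDepth_le_invariants (hG : HopfRep.IsLinearlyReductive k H)
    [Algebra.FiniteType k R] (A : Subalgebra k R)
    (hA : ∀ a : R, a ∈ A ↔ ρ (k := k) (H := H) a = a ⊗ₜ[k] (1 : H)) (I : Ideal A) :
    idealDepth I R ≤ idealDepth I A := by
  haveI : IsNoetherianRing A := isNoetherianRing_invariants hmul hone A hA
  haveI : Module.Finite A R := finite_over_invariants hmul hone A hA
  obtain ⟨l, hl1, hl⟩ := exists_integral hG
  exact idealDepth_le_of_retract I (Algebra.linearMap A R) (reynolds hmul A hA l hl)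
    (fun a => reynolds_algebraMap hmul A hA l hl1 hl a)

include hmul hone in
/-- **(S_r) descends to invariants.** -/
theorem hasSk_invariants (hG : HopfRep.IsLinearlyReductive k H)
    [Algebra.FiniteType k R] (A : Subalgebra k R)
    (hA : ∀ a : R, a ∈ A ↔ ρ (k := k) (H := H) a = a ⊗ₜ[k] (1 : H))
    (r : ℕ) (hR : HasSk r R R) : HasSk r A R ∧ HasSk r A A := by
  haveI : IsNoetherianRing A := isNoetherianRing_invariants hmul hone A hA
  haveI : Module.Finite A R := finite_over_invariants hmul hone A hA
  constructor
  · intro p hp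
    have h1 := min_height_le_idealDepth hmul hone A hA r hR p
    have h2 := idealDepth_le_depth_localization R p ⟨p, hp⟩ le_rfl
    have h3 : Module.supportDim (Localization.AtPrime p) (LocalizedModule p.primeCompl R) ≤
        (p.height : WithBot ℕ∞) :=
      (Module.supportDim_le_ringKrullDim _ _).trans_eq
        (IsLocalization.AtPrime.ringKrullDim_eq_height p _)
    refine le_trans (min_le_min_left _ h3) ?_
    have h4 : min (r : WithBot ℕ∞) (p.height : WithBot ℕ∞) =
        ((min (r : ℕ∞) p.height : ℕ∞) : WithBot ℕ∞) := by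
      rw [WithBot.coe_min]; rfl
    rw [h4]
    exact_mod_cast h1.trans h2
  · intro p hp
    have h1 := min_height_le_idealDepth hmul hone A hA r hR p
    have h2 := idealDepth_le_depth_localization A p ⟨p, hp⟩ le_rfl
    have h5 := idealDepth_le_invariants hmul hone hG A hA p
    rw [supportDim_localizedModule_self]
    have h4 : min (r : WithBot ℕ∞) (p.height : WithBot ℕ∞) =
        ((min (r : ℕ∞) p.height : ℕ∞) : WithBot ℕ∞) := by
      rw [WithBot.coe_min]; rfl
    rw [h4]
    exact_mod_cast (h1.trans h5).trans h2

end Groth.Agent.Lib.Helper6.InvCM
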