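import Mathlib
import Groth.Prelude.Def_CAlg
import Groth.Prelude.Def_HopfRep
import Groth.Agent.Lib.Helper8.Depth36
import Groth.Agent.Lib.Helper8.Depth41
import Groth.Agent.Lib.Helper6.InvNorm.INd
import Groth.Agent.Lib.Helper6.InvCM.ICh

/-!
# Cohen–Macaulayness of invariants of linearly reductive finite group schemes (helper6)
-/

set_option autoImplicit false
set_option linter.unusedSectionVars false
set_option linter.unusedVariables false
set_option linter.unusedSimpArgs false
set_option linter.style.haveILetI false
set_option maxHeartbeats 400000

universe u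

namespace Groth.Agent.Lib.Helper6.InvCM

open TensorProduct LocCoh Groth.Agent.Helper8.Depth Groth.Agent.Lib.Helper6.InvNorm

/-- A Cohen–Macaulay ring satisfies all the conditions `(S_r)`. -/
theorem hasSk_of_isCohenMacaulayRing (R : Type u) [CommRing R] (hR : IsCohenMacaulayRing R)
    (r : ℕ) : HasSk r R R := by
  intro q hq
  have h1 := (hR.isCohenMacaulayLocalRing_localization q).supportDim_eq_depth
  rw [depth_localizedModule_self, Module.supportDim_eq_of_equiv (localizedModuleSelfEquiv q), h1]
  exact min_le_right _ _

variable {k : Type u} [Field k] {H : Type u} [CommRing H] [HopfAlgebra k H] [Module.Finite k H]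
  {R : Type u} [CommRing R] [Algebra k R] [HopfRep.Comod k H R]

variable (hmul : ∀ x y : R, ρ (k := k) (H := H) (x * y) = ρ (k := k) (H := H) x * ρ (k := k) (H := H) y)
  (hone : ρ (k := k) (H := H) (1 : R) = 1)

include hmul hone in
theorem height_le_idealDepth_of_cm [Algebra.FiniteType k R] (A : Subalgebra k R)
    (hA : ∀ a : R, a ∈ A ↔ ρ (k := k) (H := H) a = a ⊗ₜ[k] (1 : H))
    (hR : IsCohenMacaulayRing R) (p : Ideal A) [hp : p.IsPrime] :
    p.height ≤ idealDepth p R := by
  haveI : IsNoetherianRing A := isNoetherianRing_invariants hmul hone A hA
  have hfin : p.height ≠ ⊤ := Ideal.height_ne_top hp.ne_top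
  obtain ⟨h, hh⟩ := ENat.ne_top_iff_exists.mp hfin
  have h1 := min_height_le_idealDepth hmul hone A hA h (hasSk_of_isCohenMacaulayRing R hR h) p
  rw [← hh, min_self] at h1
  rw [← hh]
  exact h1

include hmul hone in
/-- **Hochster–Roberts for linearly reductive finite group schemes.** -/
theorem cm_invariants (hG : HopfRep.IsLinearlyReductive k H)
    [Algebra.FiniteType k R] (A : Subalgebra k R)
    (hA : ∀ a : R, a ∈ A ↔ ρ (k := k) (H := H) a = a ⊗ₜ[k] (1 : H))
    (hR : IsCohenMacaulayRing R) :
    IsCohenMacaulayRing A ∧ ∀ (p : Ideal A) [p.IsPrime],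
      IsCohenMacaulayModule (Localization.AtPrime p) (LocalizedModule p.primeCompl R) ∧
        Module.supportDim (Localization.AtPrime p) (LocalizedModule p.primeCompl R) =
          ringKrullDim (Localization.AtPrime p) := by
  haveI hAn : IsNoetherianRing A := isNoetherianRing_invariants hmul hone A hA
  haveI : Module.Finite A R := finite_over_invariants hmul hone A hA
  constructor
  · refine ⟨fun p hp => ?_⟩
    refine { supportDim_eq_depth := ?_ }
    rw [supportDim_localization_self, ← depth_localizedModule_self]
    have h1 := height_le_idealDepth_of_cm hmul hone A hA hR p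
    have h2 := idealDepth_le_depth_localization A p ⟨p, hp⟩ le_rfl
    have h5 := idealDepth_le_invariants hmul hone hG A hA p
    haveI := nontrivial_localizedModule_self A p
    have h6 := depth_le_supportDim (A := Localization.AtPrime p)
      (M := LocalizedModule p.primeCompl A)
    rw [supportDim_localizedModule_self] at h6
    refine le_antisymm ?_ h6
    exact_mod_cast (h1.trans h5).trans h2
  · intro p hp
    have h1 := height_le_idealDepth_of_cm hmul hone A hA hR p
    have h2 := idealDepth_le_depth_localization R p ⟨p, hp⟩ le_rfl
    have h3 : Module.supportDim (Localization.AtPrime p) (LocalizedModule p.primeCompl R) ≤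
        (p.height : WithBot ℕ∞) :=
      (Module.supportDim_le_ringKrullDim _ _).trans_eq
        (IsLocalization.AtPrime.ringKrullDim_eq_height p _)
    haveI hnt : Nontrivial (LocalizedModule p.primeCompl R) := by
      have hsupp : (⟨p, hp⟩ : PrimeSpectrum A) ∈ Module.support A R := by
        rw [Module.mem_support_iff_of_finite]
        have : Module.annihilator A R = ⊥ := by
          rw [eq_bot_iff]
          intro a ha
          rw [Module.mem_annihilator] at ha
          have h1 := ha (1 : R)
          rw [Algebra.smul_def, mul_one] at h1
          rw [Ideal.mem_bot]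
          exact Subtype.ext h1
        rw [this]
        exact bot_le
      exact Module.mem_support_iff.mp hsupp
    have h6 := depth_le_supportDim (A := Localization.AtPrime p)
      (M := LocalizedModule p.primeCompl R)
    have h7 : ((p.height : ℕ∞) : WithBot ℕ∞) ≤
        ((depth (Localization.AtPrime p) (LocalizedModule p.primeCompl R) : ℕ∞) : WithBot ℕ∞) := by
      exact_mod_cast h1.trans h2
    constructor
    · exact le_antisymm (h3.trans h7) h6
    · rw [IsLocalization.AtPrime.ringKrullDim_eq_height p (Localization.AtPrime p)]
      exact le_antisymm h3 (h7.trans h6)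

end Groth.Agent.Lib.Helper6.InvCM
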